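import Cfsg.Agent.Lib.OddOrder.TypeOne
import Cfsg.Prelude.Def_OddOrderLocal
import Cfsg.Prelude.Def_OddOrderChar

/-!
# Interface of Peterfalvi, section 12 (maximal subgroups of type I)

Consumed: `PF8.BG16` and `PF8.Step_8_*`, the existence of the prime sets (first clause of S1378, here
`SigmaCover`) and from §§10–11 the two facts `NoTypeV`, `TypeThreeFourCyclic` (no type V; in types III/IV
the complement `U` is cyclic, the field `U_cyclic` of `PF11.Result`).

Delivered: `Step_12_6` (S1542), `Step_12_7` (S1540), `Step_12_17` (S1541).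
-/

set_option autoImplicit false

namespace Cfsg.Agent.Lib.OddOrder.Interface.PF12

universe u

variable (G : Type u) [Group G]

/-- No maximal subgroup is of type V (Peterfalvi 10.10). -/
def NoTypeV : Prop := ∀ M : Subgroup G, IsCoatom M → ¬ Cfsg.IsOfTypeV M

/-- For a maximal subgroup of type III or IV the complement `U` is cyclic (Peterfalvi 11.9). -/
def TypeThreeFourCyclic : Prop :=
  ∀ M W₁ U W₂ : Subgroup G, IsCoatom M → Cfsg.IsTypePWith M W₁ U W₂ →
    (Cfsg.IsOfTypeIII M ∨ Cfsg.IsOfTypeIV M) → IsCyclic U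

/-- Every prime divisor of the order lies in some `σ(M)` (first clause of S1378). -/
def SigmaCover : Prop :=
  ∀ p : ℕ, p.Prime → p ∣ Nat.card G → ∃ M : Subgroup G, IsCoatom M ∧ p ∈ Cfsg.sigma M

/-- (12.7): a maximal subgroup of type I is a Frobenius group with kernel `M_F`. -/
def Step_12_7 : Prop :=
  ∀ M : Subgroup G, IsCoatom M → Cfsg.Agent.Lib.OddOrder.TypeOne.IsTypeI M →
    ∀ x ∈ Cfsg.fittingHallOf M, x ≠ 1 →
      M ⊓ Subgroup.centralizer ({x} : Set G) ≤ Cfsg.fittingHallOf M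

/-- (12.17): not every maximal subgroup is of type I. -/
def Step_12_17 : Prop := ∃ M : Subgroup G, IsCoatom M ∧ ¬ Cfsg.Agent.Lib.OddOrder.TypeOne.IsTypeI M

/-- (12.6): for a Frobenius type I subgroup the induced characters are irreducible and coherent. -/
def Step_12_6 [Fintype G] : Prop :=
  ∀ (L : Subgroup G) [Fintype L], IsCoatom L → Cfsg.Agent.Lib.OddOrder.TypeOne.IsTypeI L →
    (∀ x ∈ Cfsg.fittingHallOf L, x ≠ 1 →
      L ⊓ Subgroup.centralizer ({x} : Set G) ≤ Cfsg.fittingHallOf L) →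
    (∀ χ ∈ Cfsg.inducedIrrAbove (Cfsg.fittingHall L) ⊥, Cfsg.IsIrrCharacter L χ) ∧
      Cfsg.IsCoherent (Cfsg.inducedIrrAbove (Cfsg.fittingHall L) ⊥) {1}ᶜ
        (Cfsg.dadeIsometry (Cfsg.Agent.Lib.OddOrder.TypeOne.typeA L) L (Cfsg.supportR L))

end Cfsg.Agent.Lib.OddOrder.Interface.PF12
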