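import Cfsg.Prelude.Def_OddOrderLocal
import Cfsg.Prelude.Def_Transfer

/-!
# What the first step of Peterfalvi §13 needs from §10

Besides `PF12.NoTypeV` (10.10), `Step_10_11` records the type II part of (10.11).
-/

set_option autoImplicit false

namespace Cfsg.Agent.Lib.OddOrder.Interface.PF13Needs

universe u

/-- (10.11): in a subgroup of type II the subgroup `M_F` is elementary abelian of order `p ^ q`,
where `p = |W₂|` is prime and `q = |W₁|`. -/
def Step_10_11 (G : Type u) [Group G] : Prop :=
  ∀ M W₁ U W₂ : Subgroup G, IsCoatom M → Cfsg.IsTypePWith M W₁ U W₂ → Cfsg.IsOfTypeII M →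
    (Nat.card W₂).Prime ∧ Cfsg.IsElementaryAbelian (Nat.card W₂) (Cfsg.fittingHallOf M) ∧
      Nat.card (Cfsg.fittingHallOf M) = Nat.card W₂ ^ Nat.card W₁

end Cfsg.Agent.Lib.OddOrder.Interface.PF13Needs
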