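import Cfsg.Agent.Lib.OddOrder.Interface.PF11
import Cfsg.Agent.Lib.OddOrder.Interface.PF12
import Cfsg.Agent.Lib.OddOrder.Interface.PF13Needs

/-!
# Interface of Peterfalvi, section 10 (definitions only)

`tau M` is the Dade map of `A₀(M)` as in `Interface/PF11.lean`; a subgroup of type P which is not
of type II is of type III, IV or V.

* `Step_10_8` (helper9): `S(1)` is not coherent for the types III, IV, V.
* `TypeVCoherent`: `S(1)` is coherent for type V; with (10.8) this gives `PF12.NoTypeV` (10.10).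
* `Partner` (helper9): for `M` with data `(W₁, U, W₂)` a partner with data `(W₂, V, W₁)`.
* (10.11), type II part: `PF13Needs.Step_10_11` (helper9).
-/

set_option autoImplicit false

namespace Cfsg.Agent.Lib.OddOrder.Interface.PF10

open Interface.PF11 (derivedIn tau)

universe u

variable (G : Type u) [Group G]

/-- A maximal subgroup of type P has a partner: data with the factors exchanged. -/
def Partner : Prop :=
  ∀ M W₁ U W₂ : Subgroup G, IsCoatom M → Cfsg.IsTypePWith M W₁ U W₂ →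
    ∃ S V : Subgroup G, IsCoatom S ∧ Cfsg.IsTypePWith S W₂ V W₁ ∧
      (∀ g : G, S.map (MulAut.conj g).toMonoidHom ≠ M) ∧
      (Cfsg.IsOfTypeII M ∨ Cfsg.IsOfTypeII S) ∧
      (Cfsg.IsOfTypeII S ∨ Cfsg.IsOfTypeIII S ∨ Cfsg.IsOfTypeIV S ∨ Cfsg.IsOfTypeV S)

/-- (10.8): for the types III, IV, V the set `S(1)` is not coherent. -/
def Step_10_8 [Fintype G] : Prop :=
  ∀ (M W₁ U W₂ : Subgroup G) [Fintype ↥M], IsCoatom M → Cfsg.IsTypePWith M W₁ U W₂ →
    (Cfsg.IsOfTypeIII M ∨ Cfsg.IsOfTypeIV M ∨ Cfsg.IsOfTypeV M) →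
      ¬ Cfsg.IsCoherent (Cfsg.inducedIrrAbove (derivedIn M) ⊥) {1}ᶜ (tau M)

/-- For type V the set `S(1)` is coherent (first half of the proof of (10.10)). -/
def TypeVCoherent [Fintype G] : Prop :=
  ∀ (M W₁ U W₂ : Subgroup G) [Fintype ↥M], IsCoatom M → Cfsg.IsTypePWith M W₁ U W₂ →
    Cfsg.IsOfTypeV M → Cfsg.IsCoherent (Cfsg.inducedIrrAbove (derivedIn M) ⊥) {1}ᶜ (tau M)

end Cfsg.Agent.Lib.OddOrder.Interface.PF10
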