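import Cfsg.Agent.Lib.OddOrder.TypeOne
import Cfsg.Prelude.Def_Characters
import Cfsg.Prelude.Def_OddOrderLocal
import Cfsg.Prelude.Def_OddOrderChar

/-!
# Interface of Peterfalvi, section 11 (maximal subgroups of types III and IV)

`Setup` is what §11 consumes, `Result` what it delivers ((11.5)-(11.7), (11.9)).

* Consumed from §8: the Dade hypothesis for `A₀(M)` (`Step_8_15`) and `M' - 1 ⊆ A(M)`, `M` not of
  type I (`Step_8_5`).
* Consumed from §10: `|W₂|` is prime (no type V), a coherence system on `S(1)` for the Dade map and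
  its non-coherence (10.8).
-/

set_option autoImplicit false

namespace Cfsg.Agent.Lib.OddOrder.Interface.PF11

universe u

variable {G : Type u} [Group G]

/-- `M'` inside `M`. -/
abbrev derivedIn (M : Subgroup G) : Subgroup ↥M := (⁅M, M⁆).subgroupOf M

/-- The Dade map attached to `A₀(M)`. -/
noncomputable abbrev tau (M : Subgroup G) : (↥M → ℂ) → (G → ℂ) :=
  Cfsg.dadeIsometry (Cfsg.Agent.Lib.OddOrder.TypeOne.typeA0 M) M (Cfsg.supportR M)

/-- What §11 assumes on a maximal subgroup of type III or IV. -/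
structure Setup [Fintype G] (M W₁ U W₂ : Subgroup G) [Fintype ↥M] : Prop where
  odd : Odd (Nat.card G)
  typeP : Cfsg.IsTypePWith M W₁ U W₂
  solvable : Group.IsSolvable ↥M
  U_ne : U ≠ ⊥
  q_prime : (Nat.card W₁).Prime
  p_prime : (Nat.card W₂).Prime
  not_typeI : ¬ Cfsg.Agent.Lib.OddOrder.TypeOne.IsTypeI M
  dade : Cfsg.DadeHypothesis (Cfsg.Agent.Lib.OddOrder.TypeOne.typeA0 M) M (Cfsg.supportR M)
  derived_subset : ∀ x ∈ ⁅M, M⁆, x ≠ 1 → x ∈ Cfsg.Agent.Lib.OddOrder.TypeOne.typeA0 M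
  system : ∃ R, Cfsg.IsCoherenceSystem (Cfsg.inducedIrrAbove (derivedIn M) ⊥) (tau M) R
  noncoherent : ¬ Cfsg.IsCoherent (Cfsg.inducedIrrAbove (derivedIn M) ⊥) {1}ᶜ (tau M)

/-- What §11 delivers: `H = M_F` is elementary abelian of order `p ^ q`, `U` is cyclic, acts
irreducibly and fixed-point-freely on `H` (so `C = 1`, `M` is of type III, case (9.7 b)),
`q` exceeds `p`, and `τ (μ₀ - ζ)` is constant along the rows of the cyclic TI family: its
coefficient at `η (φ ψ)` is that at `η φ`, in particular `1` at every `η ψ` with `ψ` trivial on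
`W₁`. -/
structure Result [Fintype G] (M W₁ U W₂ : Subgroup G) [Fintype ↥M] : Prop where
  H_elementary : Cfsg.IsElementaryAbelian (Nat.card W₂) (Cfsg.fittingHallOf M)
  H_card : Nat.card (Cfsg.fittingHallOf M) = Nat.card W₂ ^ Nat.card W₁
  U_cyclic : IsCyclic U
  U_faithful : U ⊓ Subgroup.centralizer ((Cfsg.fittingHallOf M : Subgroup G) : Set G) = ⊥
  U_irreducible : ∀ X : Subgroup G, X ≤ Cfsg.fittingHallOf M →
    U ≤ Subgroup.normalizer (X : Set G) → X = ⊥ ∨ X = Cfsg.fittingHallOf M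
  U_free : ∀ x ∈ U, x ≠ 1 → Cfsg.fittingHallOf M ⊓ Subgroup.centralizer ({x} : Set G) = ⊥
  derived_two : ⁅⁅M, M⁆, ⁅M, M⁆⁆ = Cfsg.fittingHallOf M
  p_lt_q : Nat.card W₂ < Nat.card W₁
  row : ∀ η : (↥(W₁ ⊔ W₂) →* ℂˣ) → (G → ℂ), Cfsg.IsCyclicTIFamily W₁ W₂ η →
    ∀ ζ ∈ Cfsg.inducedIrrAbove (derivedIn M) ((Cfsg.fittingHallOf M).subgroupOf M),
    ∀ φ ψ : ↥(W₁ ⊔ W₂) →* ℂˣ, (∀ w : ↥(W₁ ⊔ W₂), (w : G) ∈ W₂ → φ w = 1) →
      (∀ w : ↥(W₁ ⊔ W₂), (w : G) ∈ W₁ → ψ w = 1) →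
      Cfsg.classInner (tau M (Cfsg.indFun (derivedIn M) (fun _ => 1) - ζ)) (η (φ * ψ)) =
        Cfsg.classInner (tau M (Cfsg.indFun (derivedIn M) (fun _ => 1) - ζ)) (η φ)

/-- The interface Prop of §11. -/
def Step_11 (G : Type u) [Group G] [Fintype G] : Prop :=
  ∀ (M W₁ U W₂ : Subgroup G) [Fintype ↥M], Setup M W₁ U W₂ → Result M W₁ U W₂

end Cfsg.Agent.Lib.OddOrder.Interface.PF11
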