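import Cfsg.Agent.Lib.OddOrder.TypeOne
import Cfsg.Prelude.Def_OddOrderLocal
import Cfsg.Prelude.Def_OddOrderChar

/-!
# Peterfalvi §8: interface (definitions only)

`BG16` / `BG14` collect what the character-theoretic half assumes from the local analysis; the
`Step_8_*` propositions are what §8 delivers to §§9–14, each as `IsMinSimpleOddOrder G → BG16 G → ...`.

* `Step_8_5`   type P bookkeeping: exclusivity, conjugacy of data, `A₀` from one datum.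
* `Step_8_15`  `N_G(A) = M` and the Dade hypothesis for `A₁, A, A₀` (S1537).
* `Step_8_16`  Type II: TI-sets (S1538).
* `Step_8_17`  supporting subgroups and `Ã₁(S) ∩ Ã(T)` (S1539).
* `Step_8_18`  cores of non-conjugate subgroups coprime, covering of `G - 1`, cardinalities.
-/

set_option autoImplicit false

namespace Cfsg.Agent.Lib.OddOrder.Interface.PF8

universe u

/-- The part of the structure theorem of the local analysis that §8 uses. -/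
structure BG16 (G : Type u) [Group G] [Finite G] : Prop where
  types : ∀ M : Subgroup G, IsCoatom M → Cfsg.Agent.Lib.OddOrder.TypeOne.IsTypeI M ∨ Cfsg.IsOfTypeII M ∨
    Cfsg.IsOfTypeIII M ∨ Cfsg.IsOfTypeIV M ∨ Cfsg.IsOfTypeV M
  core_eq : ∀ M : Subgroup G, IsCoatom M → Cfsg.typeCore M = Cfsg.sigmaCore M
  structureThm :
    (∀ M : Subgroup G, IsCoatom M → Cfsg.Agent.Lib.OddOrder.TypeOne.IsTypeI M) ∨
      ∃ W₁ W₂ S T : Subgroup G, Cfsg.IsSelfNormalizingCyclic W₁ W₂ ∧ IsCoatom S ∧ IsCoatom T ∧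
        Cfsg.IsComplIn ⁅S, S⁆ W₁ S ∧ Cfsg.IsComplIn ⁅T, T⁆ W₂ T ∧ S ⊓ T = W₁ ⊔ W₂ ∧
        (Cfsg.IsOfTypeII S ∨ Cfsg.IsOfTypeII T) ∧
        (Cfsg.IsOfTypeII S ∨ Cfsg.IsOfTypeIII S ∨ Cfsg.IsOfTypeIV S ∨ Cfsg.IsOfTypeV S) ∧
        (Cfsg.IsOfTypeII T ∨ Cfsg.IsOfTypeIII T ∨ Cfsg.IsOfTypeIV T ∨ Cfsg.IsOfTypeV T) ∧
        ∀ M : Subgroup G, IsCoatom M → Cfsg.Agent.Lib.OddOrder.TypeOne.IsTypeI M ∨ ∃ g : G, M = S.map (MulAut.conj g).toMonoidHom ∨ M = T.map (MulAut.conj g).toMonoidHom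
  hall : ∀ M : Subgroup G, IsCoatom M →
    (∀ (p : ℕ), p.Prime → ∀ (P : Sylow p ↥(Cfsg.typeCore M)), (P : Subgroup ↥(Cfsg.typeCore M)) ≠ ⊥ →
        Subgroup.normalizer ((((P : Subgroup ↥(Cfsg.typeCore M)).map (Cfsg.typeCore M).subtype : Subgroup G)) : Set G) ≤ M) ∧
      (Nat.card (Cfsg.fittingHallOf M)).Coprime (Cfsg.fittingHallOf M).index ∧
      (Nat.card (Cfsg.typeCore M)).Coprime (Cfsg.typeCore M).index
  cent : ∀ M : Subgroup G, IsCoatom M → ∀ U : Subgroup G,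
    (Cfsg.Agent.Lib.OddOrder.TypeOne.IsTypeI M ∧ Cfsg.IsComplIn (Cfsg.fittingHallOf M) U M) ∨ (Cfsg.IsOfTypeII M ∧ Cfsg.IsComplIn (Cfsg.fittingHallOf M) U ⁅M, M⁆) →
    (∀ (p : ℕ), p.Prime → ∀ P : Sylow p U, IsMulCommutative (P : Subgroup U) ∧ Cfsg.PRankLE p 2 (P : Subgroup U)) ∧
      (∀ X : Set G, X ⊆ (U : Set G) \ {1} → X.Nonempty → Cfsg.fittingHallOf M ⊓ Subgroup.centralizer X ≠ ⊥ →
        Subgroup.centralizer X ≤ M ∧ ∀ L : Subgroup G, IsCoatom L → Subgroup.centralizer X ≤ L → L = M) ∧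
      Cfsg.IsTISubset (Cfsg.Agent.Lib.OddOrder.TypeOne.typeA M \ Cfsg.typeA1 M)
  embed : ∀ M : Subgroup G, IsCoatom M → ∀ X : Set G, X = Cfsg.Agent.Lib.OddOrder.TypeOne.typeA M ∨ X = Cfsg.Agent.Lib.OddOrder.TypeOne.typeA0 M →
    (∀ x ∈ X, ∀ g : G, g * x * g⁻¹ ∈ X → ∃ m ∈ M, m * x * m⁻¹ = g * x * g⁻¹) ∧
      (∀ x ∈ X, ¬ Subgroup.centralizer ({x} : Set G) ≤ M → x ∈ Cfsg.typeA1 M ∧ ∃! L : Subgroup G, IsCoatom L ∧ Subgroup.centralizer ({x} : Set G) ≤ L) ∧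
      ∀ x ∈ X, ¬ Subgroup.centralizer ({x} : Set G) ≤ M → ∀ L : Subgroup G, IsCoatom L → Subgroup.centralizer ({x} : Set G) ≤ L →
        Cfsg.IsComplIn (Cfsg.fittingHallOf L) (M ⊓ L) L ∧
        Subgroup.centralizer ({x} : Set G) ≤ Subgroup.normalizer ((Cfsg.fittingHallOf L ⊓ Subgroup.centralizer ({x} : Set G) : Subgroup G) : Set G) ∧
        Cfsg.IsComplIn (Cfsg.fittingHallOf L ⊓ Subgroup.centralizer ({x} : Set G)) (M ⊓ Subgroup.centralizer ({x} : Set G)) (Subgroup.centralizer ({x} : Set G)) ∧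
        (∀ y ∈ X, (Nat.card (Cfsg.fittingHallOf L)).Coprime (Nat.card ↥(M ⊓ Subgroup.centralizer ({y} : Set G)))) ∧
        (x ∈ Cfsg.Agent.Lib.OddOrder.TypeOne.typeA L ∧ x ∉ Cfsg.typeA1 L) ∧
        (Cfsg.Agent.Lib.OddOrder.TypeOne.IsTypeI L ∨ Cfsg.IsOfTypeII L) ∧
        (Cfsg.IsOfTypeII L → ∃ E : Subgroup ↥M, Cfsg.IsFrobeniusComplement E ∧ Cfsg.frobeniusKernel E = ((Cfsg.fittingHall ↥M : Subgroup ↥M) : Set ↥M))

/-- The counting part of §14 of the local analysis (S1377, S1379). -/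
structure BG14 (G : Type u) [Group G] [Finite G] : Prop where
  count : ∀ M : Subgroup G, IsCoatom M →
    Set.ncard (Cfsg.tildeOf M ((Cfsg.sigmaCore M : Set G) \ {1})) = (Nat.card (Cfsg.sigmaCore M) - 1) * M.index
  cover :
    (∀ M N : Subgroup G, IsCoatom M → IsCoatom N → (∀ g : G, N ≠ M.map (MulAut.conj g).toMonoidHom) → Cfsg.tildeOf M ((Cfsg.sigmaCore M : Set G) \ {1}) ∩ Cfsg.tildeOf N ((Cfsg.sigmaCore N : Set G) \ {1}) = ∅) ∧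
      ((∀ M : Subgroup G, IsCoatom M → Cfsg.kappa M = ∅) →
        ∀ g : G, g ≠ 1 → ∃ M : Subgroup G, IsCoatom M ∧ g ∈ Cfsg.tildeOf M ((Cfsg.sigmaCore M : Set G) \ {1})) ∧
      ∀ (M K U : Subgroup G), IsCoatom M → Cfsg.IsSigmaDecomposition M K U → K ≠ ⊥ →
        (∀ g : G, g ≠ 1 → (∃ N : Subgroup G, IsCoatom N ∧ g ∈ Cfsg.tildeOf N ((Cfsg.sigmaCore N : Set G) \ {1})) ∨
            ∃ y : G, ∃ z ∈ ((↑(K ⊔ (Cfsg.sigmaCore M ⊓ Subgroup.centralizer (K : Set G))) : Set G) \ ((K : Set G) ∪ ↑(Cfsg.sigmaCore M ⊓ Subgroup.centralizer (K : Set G)))), g = y * z * y⁻¹) ∧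
        ∀ N : Subgroup G, IsCoatom N → ∀ y : G, ∀ z ∈ ((↑(K ⊔ (Cfsg.sigmaCore M ⊓ Subgroup.centralizer (K : Set G))) : Set G) \ ((K : Set G) ∪ ↑(Cfsg.sigmaCore M ⊓ Subgroup.centralizer (K : Set G)))), y * z * y⁻¹ ∉ Cfsg.tildeOf N ((Cfsg.sigmaCore N : Set G) \ {1})

variable (G : Type u) [Group G] [Finite G]

/-- The three sets attached to a maximal subgroup. -/
def IsSupportSet (M : Subgroup G) (A : Set G) : Prop :=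
  A = Cfsg.typeA1 M ∨ A = Cfsg.Agent.Lib.OddOrder.TypeOne.typeA M ∨ A = Cfsg.Agent.Lib.OddOrder.TypeOne.typeA0 M

/-- The elements of `W₁W₂` outside `W₁ ∪ W₂`. -/
def cyclicSet (W₁ W₂ : Subgroup G) : Set G := {w | w ∈ W₁ ⊔ W₂ ∧ w ∉ W₁ ∧ w ∉ W₂}

/-- (8.15): `N_G(A) = M` and the Dade hypothesis for `(A, M, supportR M)` (statement S1537). -/
def Step_8_15 : Prop :=
  ∀ M : Subgroup G, IsCoatom M → ∀ A : Set G, IsSupportSet G M A →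
    Subgroup.normalizer A = M ∧ Cfsg.DadeHypothesis A M (Cfsg.supportR M)

/-- (8.16): for Type II the three sets are TI-subsets (statement S1538). -/
def Step_8_16 : Prop :=
  ∀ M : Subgroup G, IsCoatom M → Cfsg.IsOfTypeII M →
    (Cfsg.IsTISubset (Cfsg.Agent.Lib.OddOrder.TypeOne.typeA0 M) ∧ Subgroup.normalizer (Cfsg.Agent.Lib.OddOrder.TypeOne.typeA0 M) = M) ∧
    (Cfsg.IsTISubset (Cfsg.Agent.Lib.OddOrder.TypeOne.typeA M) ∧ Subgroup.normalizer (Cfsg.Agent.Lib.OddOrder.TypeOne.typeA M) = M) ∧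
    (Cfsg.IsTISubset (Cfsg.typeA1 M) ∧ Subgroup.normalizer (Cfsg.typeA1 M) = M) ∧
    (∀ x ∈ Cfsg.Agent.Lib.OddOrder.TypeOne.typeA0 M, Cfsg.supportR M x = ⊥)

/-- (8.17): supporting subgroups (statement S1539). -/
def Step_8_17 : Prop :=
  ∀ S T : Subgroup G, IsCoatom S → IsCoatom T → (∀ g : G, T.map (MulAut.conj g).toMonoidHom ≠ S) →
    (Cfsg.Agent.Lib.OddOrder.TypeOne.Supports T S ↔ (Cfsg.typeA1 S ∩ Cfsg.Agent.Lib.OddOrder.TypeOne.typeA T).Nonempty) ∧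
    (∀ x ∈ Cfsg.typeA1 S ∩ Cfsg.Agent.Lib.OddOrder.TypeOne.typeA T, ¬ Subgroup.centralizer ({x} : Set G) ≤ S ∧ Subgroup.centralizer ({x} : Set G) ≤ T) ∧
    ((∃ g : G, Cfsg.Agent.Lib.OddOrder.TypeOne.Supports (T.map (MulAut.conj g).toMonoidHom) S) ↔ (Cfsg.tildeOf S (Cfsg.typeA1 S) ∩ Cfsg.tildeOf T (Cfsg.Agent.Lib.OddOrder.TypeOne.typeA T)).Nonempty) ∧
    (Cfsg.tildeOf S (Cfsg.typeA1 S) ∩ Cfsg.tildeOf T (Cfsg.Agent.Lib.OddOrder.TypeOne.typeA T) = ∅ ∨ Cfsg.tildeOf T (Cfsg.typeA1 T) ∩ Cfsg.tildeOf S (Cfsg.Agent.Lib.OddOrder.TypeOne.typeA S) = ∅)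

/-- (8.18): coprimality of the cores of non-conjugate maximal subgroups, and the covering of `G - 1`
by the sets `Ã₁(M)` and, when some subgroup is of type P, the conjugates of `W₁W₂ - (W₁ ∪ W₂)`. -/
structure Step_8_18 : Prop where
  core_coprime : ∀ M N : Subgroup G, IsCoatom M → IsCoatom N →
    (∀ g : G, N.map (MulAut.conj g).toMonoidHom ≠ M) →
      (Nat.card (Cfsg.typeCore M)).Coprime (Nat.card (Cfsg.typeCore N))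
  disjoint : ∀ M N : Subgroup G, IsCoatom M → IsCoatom N →
    (∀ g : G, N.map (MulAut.conj g).toMonoidHom ≠ M) →
      Cfsg.tildeOf M (Cfsg.typeA1 M) ∩ Cfsg.tildeOf N (Cfsg.typeA1 N) = ∅
  count : ∀ M : Subgroup G, IsCoatom M →
    Set.ncard (Cfsg.tildeOf M (Cfsg.typeA1 M)) = (Nat.card (Cfsg.typeCore M) - 1) * M.index
  cover_typeI : (∀ M : Subgroup G, IsCoatom M → Cfsg.Agent.Lib.OddOrder.TypeOne.IsTypeI M) →
    ∀ g : G, g ≠ 1 → ∃ M : Subgroup G, IsCoatom M ∧ g ∈ Cfsg.tildeOf M (Cfsg.typeA1 M)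
  cover_typeP : ∀ M W₁ U W₂ : Subgroup G, IsCoatom M → Cfsg.IsTypePWith M W₁ U W₂ →
    (∀ g : G, g ≠ 1 → (∃ N : Subgroup G, IsCoatom N ∧ g ∈ Cfsg.tildeOf N (Cfsg.typeA1 N)) ∨
        ∃ y : G, ∃ z ∈ cyclicSet G W₁ W₂, g = y * z * y⁻¹) ∧
      ∀ N : Subgroup G, IsCoatom N → ∀ y : G, ∀ z ∈ cyclicSet G W₁ W₂,
        y * z * y⁻¹ ∉ Cfsg.tildeOf N (Cfsg.typeA1 N)

/-- (8.5): bookkeeping for subgroups of type P. -/
structure Step_8_5 : Prop where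
  not_typeI : ∀ M : Subgroup G, Cfsg.IsOfTypeP M → ¬ Cfsg.Agent.Lib.OddOrder.TypeOne.IsTypeI M
  data_conj : ∀ M : Subgroup G, IsCoatom M → ∀ W₁ U W₂ W₁' U' W₂' : Subgroup G,
    Cfsg.IsTypePWith M W₁ U W₂ → Cfsg.IsTypePWith M W₁' U' W₂' →
      ∃ m ∈ M, W₁' = W₁.map (MulAut.conj m).toMonoidHom ∧ U' = U.map (MulAut.conj m).toMonoidHom ∧
        W₂' = W₂.map (MulAut.conj m).toMonoidHom
  typeII : ∀ M : Subgroup G, IsCoatom M → ∀ W₁ U W₂ : Subgroup G, Cfsg.IsTypePWith M W₁ U W₂ →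
    Cfsg.IsOfTypeII M → U ≠ ⊥ ∧ (Nat.card W₁).Prime ∧ Cfsg.IsTISubset (Cfsg.fittingOf M : Set G) ∧
      IsMulCommutative U ∧ ¬ Subgroup.normalizer (U : Set G) ≤ M ∧
      Cfsg.IsOfTypeF ↥⁅M, M⁆ ∧ Cfsg.fittingHallOf ⁅M, M⁆ = Cfsg.fittingHallOf M ∧
      ¬ Cfsg.IsOfTypeIII M ∧ ¬ Cfsg.IsOfTypeIV M ∧ ¬ Cfsg.IsOfTypeV M ∧
      Cfsg.typeCore M = Cfsg.fittingHallOf M
  typeIII : ∀ M : Subgroup G, IsCoatom M → ∀ W₁ U W₂ : Subgroup G, Cfsg.IsTypePWith M W₁ U W₂ →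
    Cfsg.IsOfTypeIII M → U ≠ ⊥ ∧ (Nat.card W₁).Prime ∧ Cfsg.IsTISubset (Cfsg.fittingOf M : Set G) ∧
      IsMulCommutative U ∧ Subgroup.normalizer (U : Set G) ≤ M ∧
      ¬ Cfsg.IsOfTypeII M ∧ ¬ Cfsg.IsOfTypeIV M ∧ ¬ Cfsg.IsOfTypeV M ∧
      Cfsg.typeCore M = ⁅M, M⁆
  typeIV : ∀ M : Subgroup G, IsCoatom M → ∀ W₁ U W₂ : Subgroup G, Cfsg.IsTypePWith M W₁ U W₂ →
    Cfsg.IsOfTypeIV M → U ≠ ⊥ ∧ (Nat.card W₁).Prime ∧ Cfsg.IsTISubset (Cfsg.fittingOf M : Set G) ∧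
      ¬ IsMulCommutative U ∧ Subgroup.normalizer (U : Set G) ≤ M ∧
      ¬ Cfsg.IsOfTypeII M ∧ ¬ Cfsg.IsOfTypeIII M ∧ ¬ Cfsg.IsOfTypeV M ∧
      Cfsg.typeCore M = ⁅M, M⁆
  typeV : ∀ M : Subgroup G, IsCoatom M → ∀ W₁ U W₂ : Subgroup G, Cfsg.IsTypePWith M W₁ U W₂ →
    Cfsg.IsOfTypeV M → U = ⊥ ∧
      ¬ Cfsg.IsOfTypeII M ∧ ¬ Cfsg.IsOfTypeIII M ∧ ¬ Cfsg.IsOfTypeIV M ∧
      Cfsg.fittingHallOf M = ⁅M, M⁆ ∧ Cfsg.typeCore M = ⁅M, M⁆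
  typeA0_eq : ∀ M : Subgroup G, IsCoatom M → ∀ W₁ U W₂ : Subgroup G, Cfsg.IsTypePWith M W₁ U W₂ →
    Cfsg.Agent.Lib.OddOrder.TypeOne.typeA0 M = Cfsg.Agent.Lib.OddOrder.TypeOne.typeA M ∪ {v | ∃ m ∈ M, ∃ w ∈ cyclicSet G W₁ W₂, v = m * w * m⁻¹}
  typeA_le : ∀ M : Subgroup G, IsCoatom M → ∀ W₁ U W₂ : Subgroup G, Cfsg.IsTypePWith M W₁ U W₂ →
    Cfsg.fittingHallOf M ≤ Cfsg.typeCore M ∧ Cfsg.typeCore M ≤ ⁅M, M⁆ ∧
      Group.IsNilpotent (Cfsg.fittingHallOf M) ∧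
      Cfsg.Agent.Lib.OddOrder.TypeOne.typeA M = {a | a ∈ ⁅M, M⁆ ∧ a ≠ 1 ∧ ∃ x ∈ Cfsg.typeCore M, x ≠ 1 ∧ a * x = x * a}

end Cfsg.Agent.Lib.OddOrder.Interface.PF8
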