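import Cfsg.Prelude.Def_OddOrderChar
import Cfsg.Prelude.Def_OddOrderLocal

/-!
# Peterfalvi, section 9: the interface between (9.1)–(9.7) and (9.8)–(9.11)

Everything takes place inside one finite group `L` (the maximal subgroup `M` of type II, III or
IV): `K = M'`, `H = M_F`, `U` a complement of `H` in `K`, `W₁` of prime order `q` a complement of
`K`, `W₂` the fixed points in `K` of `W₁#`, `H₀` the kernel of the chief factor and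
`C = C_U(H / H₀)`.  `Setting` is the output of (9.4)–(9.7); `Degrees`, `Reducible`,
`IrreducibleQU` and `CoreCoherence` are (9.8)–(9.11), proved in `Lib/OddOrder/PF9*.lean`.
-/

set_option autoImplicit false

namespace Cfsg.Agent.Lib.OddOrder.PF9Char

universe u v

variable {L : Type u} [Group L]

/-- `S(A)`: the functions on `L` induced from the irreducible characters of `K` with `A` in the
kernel and `H` not in the kernel. -/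
def seqS [Fintype L] (K H A : Subgroup L) : Set (L → ℂ) :=
  {φ | ∃ θ : ↥K → ℂ, Cfsg.IsIrrCharacter ↥K θ ∧ (∀ a : ↥K, (a : L) ∈ A → θ a = θ 1) ∧
    (∃ x : ↥K, (x : L) ∈ H ∧ θ x ≠ θ 1) ∧ φ = Cfsg.indFun K θ}

/-- The hypotheses: what (9.1)–(9.6) provide. -/
structure Setting (K H U W₁ W₂ H₀ C : Subgroup L) (p q : ℕ) : Prop where
  prime_p : p.Prime
  prime_q : q.Prime
  odd : Odd (Nat.card L)
  solvable : Group.IsSolvable K
  K_normal : K.Normal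
  H_normal : H.Normal
  H₀_normal : H₀.Normal
  H₀_le : H₀ ≤ H
  H_le : H ≤ K
  U_le : U ≤ K
  H_inf_U : H ⊓ U = ⊥
  H_sup_U : H ⊔ U = K
  coprime_HU : (Nat.card H).Coprime (Nat.card U)
  W₁_normalizes : W₁ ≤ Subgroup.normalizer (U : Set L)
  K_inf_W₁ : K ⊓ W₁ = ⊥
  K_sup_W₁ : K ⊔ W₁ = ⊤
  card_W₁ : Nat.card W₁ = q
  coprime_W₁ : q.Coprime (Nat.card K)
  W₂_le : W₂ ≤ H
  W₂_cyclic : IsCyclic W₂
  W₂_ne : W₂ ≠ ⊥
  centralizer_W₁ : ∀ w ∈ W₁, w ≠ 1 → K ⊓ Subgroup.centralizer ({w} : Set L) = W₂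
  W₂_quot : H₀.relIndex (W₂ ⊔ H₀) = p
  H₀_relIndex : H₀.relIndex H = p ^ q
  pow_mem : ∀ x ∈ H, x ^ p ∈ H₀
  commutator_mem : ∀ x ∈ H, ∀ y ∈ H, x * y * x⁻¹ * y⁻¹ ∈ H₀
  chief : ∀ N : Subgroup L, N.Normal → H₀ ≤ N → N ≤ H → N = H₀ ∨ N = H
  mem_C : ∀ u : L, u ∈ C ↔ u ∈ U ∧ ∀ h ∈ H, u * h * u⁻¹ * h⁻¹ ∈ H₀
  C_lt : C < U
  quot_comm : ∀ x ∈ U, ∀ y ∈ U, x * y * x⁻¹ * y⁻¹ ∈ C

/-- The Galois case of (9.7): `U` acts irreducibly on `H / H₀`. -/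
def IsGalois (H U H₀ : Subgroup L) : Prop :=
  ∀ N : Subgroup L, H₀ ≤ N → N ≤ H → U ≤ Subgroup.normalizer (N : Set L) → N = H₀ ∨ N = H

/-- The non-Galois case of (9.7): `H / H₀` is the product of the `W₁`-conjugates of the line
`H₁ / H₀`, on which `U` acts through the quotient by `C₁`, of order `a`. -/
structure LineData (H U W₁ H₀ H₁ C₁ : Subgroup L) (p a : ℕ) : Prop where
  H₀_le : H₀ ≤ H₁
  le_H : H₁ ≤ H
  relIndex : H₀.relIndex H₁ = p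
  normalizes : U ≤ Subgroup.normalizer (H₁ : Set L)
  generates : ⨆ w : W₁, H₁.map (MulAut.conj (w : L)).toMonoidHom = H
  mem_C₁ : ∀ u : L, u ∈ C₁ ↔ u ∈ U ∧ ∀ h ∈ H₁, u * h * u⁻¹ * h⁻¹ ∈ H₀
  index_C₁ : C₁.relIndex U = a
  one_lt : 1 < a
  dvd : a ∣ p - 1

/-- What (9.7) provides. -/
def Dichotomy (H U W₁ H₀ : Subgroup L) (p : ℕ) : Prop :=
  IsGalois H U H₀ ∨ ∃ H₁ C₁ : Subgroup L, ∃ a : ℕ, LineData H U W₁ H₀ H₁ C₁ p a

variable [Fintype L]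

/-- (9.8)(a), (9.9)(a): divisibility of the degrees in `S(H₀)`. -/
def Degrees (K H U W₁ H₀ C : Subgroup L) (p : ℕ) : Prop :=
  ∀ θ : ↥K → ℂ, Cfsg.IsIrrCharacter ↥K θ → (∀ a : ↥K, (a : L) ∈ H₀ → θ a = θ 1) →
    (∃ x : ↥K, (x : L) ∈ H ∧ θ x ≠ θ 1) →
    (IsGalois H U H₀ → ∃ k : ℕ, θ 1 = ((C.relIndex U * k : ℕ) : ℂ)) ∧
    ∀ H₁ C₁ : Subgroup L, ∀ a : ℕ, LineData H U W₁ H₀ H₁ C₁ p a →
      ∃ k : ℕ, θ 1 = ((a * k : ℕ) : ℂ)

/-- (9.8)(c), (9.9)(a), (9.10): the reducible members of `S(H₀)` number `p - 1`; they lie in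
`S(H₀ C)`, have degree `q u` and norm `q`, and are induced from linear characters of `H C`. -/
def Reducible (K H U H₀ C : Subgroup L) (p q : ℕ) : Prop :=
  Nat.card {φ : L → ℂ // φ ∈ seqS K H H₀ ∧ ¬ Cfsg.IsIrrCharacter L φ} = p - 1 ∧
  ∀ φ ∈ seqS K H H₀, ¬ Cfsg.IsIrrCharacter L φ →
    φ ∈ seqS K H (H₀ ⊔ C) ∧ φ 1 = ((q * C.relIndex U : ℕ) : ℂ) ∧
      Cfsg.classInner φ φ = (q : ℂ) ∧
      ∃ lam : ↥(H ⊔ C) →* ℂˣ, φ = Cfsg.indFun (H ⊔ C) fun x => (lam x : ℂ)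

/-- (9.10): an irreducible member of `S(H₀ C')` of degree `q u` induced from a linear character
of `H C`, or else the Galois case with `U` cyclic of order `(p ^ q - 1) / (p - 1)` acting
semiregularly on `H / H₀`. -/
def IrreducibleQU (K H U H₀ C : Subgroup L) (p q : ℕ) : Prop :=
  (∃ φ ∈ seqS K H (H₀ ⊔ ⁅C, C⁆), Cfsg.IsIrrCharacter L φ ∧
      φ 1 = ((q * C.relIndex U : ℕ) : ℂ) ∧
      ∃ lam : ↥(H ⊔ C) →* ℂˣ, φ = Cfsg.indFun (H ⊔ C) fun x => (lam x : ℂ)) ∨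
  (IsGalois H U H₀ ∧ C = ⊥ ∧ IsCyclic U ∧ Nat.card U * (p - 1) = p ^ q - 1 ∧
    ∀ x ∈ U, x ≠ 1 → ∀ h ∈ H, x * h * x⁻¹ * h⁻¹ ∈ H₀ → h ∈ H₀)

/-- (9.11): `S(H₀ C')` is coherent.  Here `A` contains the non-identity elements of `K` centralising
a non-identity element of `H` (so `A(M)` will do), and `τ` is an isometry on the virtual characters
of `L` vanishing off `A` which keeps the multiplicity of the principal character. -/
def CoreCoherence (K H H₀ C : Subgroup L) : Prop :=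
  ∀ {G : Type v} [Group G] [Fintype G] (A : Set L) (τ : (L → ℂ) → (G → ℂ))
    (R : (L → ℂ) → Finset (G → ℂ)),
    Cfsg.IsCoherenceSystem (seqS K H (H₀ ⊔ ⁅C, C⁆)) τ R →
    (∀ x ∈ K, x ≠ 1 → (∃ h ∈ H, h ≠ 1 ∧ x * h = h * x) → x ∈ A) →
    Cfsg.IsLinearIsometryOn {α : L → ℂ | Cfsg.IsGeneralizedCharacter L α ∧ ∀ x, x ∉ A → α x = 0} τ →
    (∀ α : L → ℂ, Cfsg.IsGeneralizedCharacter L α → (∀ x, x ∉ A → α x = 0) →
      Cfsg.classInner (τ α) (fun _ => 1) = Cfsg.classInner α (fun _ => 1)) →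
    Cfsg.IsCoherent (seqS K H (H₀ ⊔ ⁅C, C⁆)) {1}ᶜ τ

end Cfsg.Agent.Lib.OddOrder.PF9Char
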