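import Mathlib
import Cfsg.Prelude.Def_Characters
import Cfsg.Prelude.Def_OddOrderLocal
import Cfsg.Prelude.Def_OddOrderChar

/-!
# Interface of Peterfalvi, section 13 (Hypothesis 13.1)

What the counting argument (13.3)-(13.12) needs from sections 8-11 about one side `S = P U W₁`
of the pair `S, T`.  It is applied twice: to `(S, P, C, U, W₁, W₂)` and to
`(T, Q, D, V, W₂, W₁)`; the cyclic TI family `η` of `W = W₁ W₂` is shared, so the subgroup `W`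
is a parameter.

* `Side` (13.2 a, b, c, e): the group-theoretical facts, `P = S_F`, `C = C_U(P)`, `H = P C = F(S)`
  a TI-subgroup with normalizer `S`, and the existence of a regular orbit when `u` is not maximal.
* `SideChar` (13.2 d, 13.3 a): the function `X θ = τ₁ (Ind_H^S θ)` for the linear characters `θ`
  of `H` non-trivial on `P`, with `τ₁` the coherent extension, and its relation with the cyclic
  TI family.
* `CrossOrth` (13.4): the two sides are orthogonal.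
-/

set_option autoImplicit false

namespace Cfsg.Agent.Lib.OddOrder.PF13

universe u

variable {G : Type u} [Group G]

/-- `θ` is non-trivial on `P`. -/
def Moves (P : Subgroup G) {H : Subgroup G} (θ : ↥H →* ℂˣ) : Prop :=
  ∃ x : ↥H, (x : G) ∈ P ∧ θ x ≠ 1

/-- Conjugation by `s` carries the character `θ` to `θ'`. -/
def ConjTo {H : Subgroup G} (s : G) (θ θ' : ↥H →* ℂˣ) : Prop :=
  ∀ x y : ↥H, (y : G) = s * (x : G) * s⁻¹ → θ y = θ' x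

/-- `θ` is fixed by every element of `A`. -/
def FixedBy (A : Subgroup G) {H : Subgroup G} (θ : ↥H →* ℂˣ) : Prop :=
  ∀ a ∈ A, ConjTo a θ θ

/-- The characters fixing `θ` under conjugation from `S` lie in `H` only. -/
def IsFree (S P : Subgroup G) {H : Subgroup G} (θ : ↥H →* ℂˣ) : Prop :=
  Moves P θ ∧ ∀ s ∈ S, ConjTo s θ θ → s ∈ H

/-- The group-theoretical facts about one side of the pair (Peterfalvi 13.2). -/
structure Side (p q : ℕ) (S P C U W₁ W₂ : Subgroup G) : Prop where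
  p_prime : p.Prime
  q_prime : q.Prime
  p_odd : p ≠ 2
  q_odd : q ≠ 2
  p_ne_q : p ≠ q
  card_W₁ : Nat.card W₁ = q
  card_W₂ : Nat.card W₂ = p
  card_P : Nat.card P = p ^ q
  P_exponent : ∀ x ∈ P, x ^ p = 1
  C_eq : C = U ⊓ Subgroup.centralizer (P : Set G)
  H_comm : ∀ x ∈ P ⊔ C, ∀ y ∈ P ⊔ C, x * y = y * x
  U_comm : ∀ x ∈ U, ∀ y ∈ U, x * y = y * x
  P_le : P ≤ S
  U_le : U ≤ S
  W₁_le : W₁ ≤ S
  S_normalizes_P : S ≤ Subgroup.normalizer (P : Set G)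
  S_normalizes_H : S ≤ Subgroup.normalizer ((P ⊔ C : Subgroup G) : Set G)
  decomp : ∀ s ∈ S, ∃ x ∈ P, ∃ a ∈ U, ∃ w ∈ W₁, s = x * a * w
  card_S : Nat.card S = Nat.card P * Nat.card U * q
  not_dvd_p : ¬ p ∣ Nat.card U
  not_dvd_q : ¬ q ∣ Nat.card U
  W₁_normalizes_U : W₁ ≤ Subgroup.normalizer (U : Set G)
  fpf : ∀ w ∈ W₁, w ≠ 1 → ∀ a ∈ U, w * a = a * w → a = 1
  W₂_le : W₂ ≤ P
  W₂_comm : ∀ w ∈ W₁, ∀ y ∈ W₂, w * y = y * w
  fixed_P : ∀ x ∈ P, (∀ w ∈ W₁, w * x = x * w) → x ∈ W₂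
  cent_W₂ : U ⊓ Subgroup.centralizer (W₂ : Set G) ≤ C
  u_le : Nat.card U * (p - 1) ≤ (p ^ q - 1) * Nat.card C
  ti : ∀ g : G, ∀ x ∈ P ⊔ C, x ≠ 1 → g * x * g⁻¹ ∈ P ⊔ C → g ∈ S
  exists_free : Nat.card U * (p - 1) < (p ^ q - 1) * Nat.card C →
    ∃ θ : ↥(P ⊔ C) →* ℂˣ, IsFree S P θ

open Classical in
/-- The character-theoretical facts about one side of the pair: `X θ = τ₁ (Ind_H^S θ)` for `θ`
non-trivial on `P`, where `τ₁` extends induction coherently on the characters of `S` without `P`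
in their kernel (Peterfalvi 13.2 d and 13.3 a), `η` being the cyclic TI family on `W = W₁ W₂`. -/
structure SideChar [Fintype G] (W W₁ W₂ S P H : Subgroup G) (η : (↥W →* ℂˣ) → G → ℂ)
    (X : (↥H →* ℂˣ) → G → ℂ) (δ : ℤ) : Prop where
  sign : δ = 1 ∨ δ = -1
  generalized : ∀ θ, Moves P θ → Cfsg.IsGeneralizedCharacter G (X θ)
  ind_sub : ∀ θ θ', Moves P θ → Moves P θ' →
    Cfsg.indFun H (fun x => (θ x : ℂ)) - Cfsg.indFun H (fun x => (θ' x : ℂ)) = X θ - X θ'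
  inner : ∀ θ θ', Moves P θ → Moves P θ' → Cfsg.classInner (X θ) (X θ') =
    (Nat.card {s : G // s ∈ S ∧ ConjTo s θ θ'} : ℂ) / (Nat.card H : ℂ)
  fixed : ∀ θ, Moves P θ → FixedBy W₁ θ → ∃ ψ : ↥W →* ℂˣ, ψ ≠ 1 ∧
    (∀ w : ↥W, (w : G) ∈ W₁ → ψ w = 1) ∧
    X θ = (δ : ℂ) • ∑ᶠ φ ∈ {φ : ↥W →* ℂˣ | ∀ w : ↥W, (w : G) ∈ W₂ → φ w = 1}, η (φ * ψ)
  orth : ∀ θ, Moves P θ → (∀ s ∈ S, ∀ θ', ConjTo s θ θ' → ¬ FixedBy W₁ θ') →
    ∀ ω, Cfsg.classInner (X θ) (η ω) = 0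

/-- The orthogonality between the two sides (Peterfalvi 13.4): an irreducible image on the first
side is orthogonal to all images on the second. -/
def CrossOrth [Fintype G] (S P : Subgroup G) {H : Subgroup G} (X : (↥H →* ℂˣ) → G → ℂ)
    (Q : Subgroup G) {K : Subgroup G} (Y : (↥K →* ℂˣ) → G → ℂ) : Prop :=
  ∀ θ, IsFree S P θ → ∀ θ', Moves Q θ' → Cfsg.classInner (X θ) (Y θ') = 0

/-- All that (13.3)-(13.12) needs from sections 8-11 about the pair `S, T` of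
Hypothesis (13.1). -/
def PairFacts [Fintype G] (S T W₁ W₂ U V : Subgroup G) : Prop :=
  ∃ (p q : ℕ) (P C Q D : Subgroup G) (η : (↥(W₁ ⊔ W₂) →* ℂˣ) → G → ℂ)
    (X : (↥(P ⊔ C) →* ℂˣ) → G → ℂ) (Y : (↥(Q ⊔ D) →* ℂˣ) → G → ℂ) (δ ε : ℤ),
    P = Cfsg.fittingHallOf S ∧ Q = Cfsg.fittingHallOf T ∧
    Cfsg.IsCyclicTIFamily W₁ W₂ η ∧
    Side p q S P C U W₁ W₂ ∧ Side q p T Q D V W₂ W₁ ∧
    SideChar (W₁ ⊔ W₂) W₁ W₂ S P (P ⊔ C) η X δ ∧
    SideChar (W₁ ⊔ W₂) W₂ W₁ T Q (Q ⊔ D) η Y ε ∧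
    CrossOrth S P X Q Y ∧ CrossOrth T Q Y P X ∧
    (q < p → ¬ Subgroup.normalizer (U : Set G) ≤ S) ∧
    (p < q → ¬ Subgroup.normalizer (V : Set G) ≤ T)

/-- The interface Prop: the facts hold for every pair as in Hypothesis (13.1). -/
def Step_13_2 (G : Type u) [Group G] [Fintype G] : Prop :=
  Cfsg.IsMinSimpleOddOrder G → ∀ S T W₁ W₂ U V : Subgroup G, IsCoatom S → IsCoatom T →
    Cfsg.IsTypePWith S W₁ U W₂ → Cfsg.IsTypePWith T W₂ V W₁ → S ⊓ T = W₁ ⊔ W₂ →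
    (Cfsg.IsOfTypeII S ∨ Cfsg.IsOfTypeII T) →
    (Cfsg.IsOfTypeII S ∨ Cfsg.IsOfTypeIII S ∨ Cfsg.IsOfTypeIV S ∨ Cfsg.IsOfTypeV S) →
    (Cfsg.IsOfTypeII T ∨ Cfsg.IsOfTypeIII T ∨ Cfsg.IsOfTypeIV T ∨ Cfsg.IsOfTypeV T) →
    PairFacts S T W₁ W₂ U V

/-- The result of (13.3)-(13.12): `C = D = 1`, one of `u`, `v` is maximal, and the lower bound
for the other. -/
def CoreResult [Fintype G] (S T W₁ W₂ U V : Subgroup G) : Prop :=
  U ⊓ Subgroup.centralizer ((Cfsg.fittingHallOf S : Subgroup G) : Set G) = ⊥ ∧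
  V ⊓ Subgroup.centralizer ((Cfsg.fittingHallOf T : Subgroup G) : Set G) = ⊥ ∧
  let p := Nat.card W₂; let q := Nat.card W₁; let u := Nat.card U; let v := Nat.card V
  (u * (p - 1) = p ^ q - 1 ∨ (v * (q - 1) = q ^ p - 1 ∧
    p ^ (q - 1) * (q - 2) * (v - 1) ≤ q * u * q ^ p)) ∧
  (v * (q - 1) = q ^ p - 1 ∨ (u * (p - 1) = p ^ q - 1 ∧
    q ^ (p - 1) * (p - 2) * (u - 1) ≤ p * v * p ^ q))

/-- The interface Prop for the consumers of the count. -/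
def Step_13_12 (G : Type u) [Group G] [Fintype G] : Prop :=
  Cfsg.IsMinSimpleOddOrder G → ∀ S T W₁ W₂ U V : Subgroup G, IsCoatom S → IsCoatom T →
    Cfsg.IsTypePWith S W₁ U W₂ → Cfsg.IsTypePWith T W₂ V W₁ → S ⊓ T = W₁ ⊔ W₂ →
    (Cfsg.IsOfTypeII S ∨ Cfsg.IsOfTypeII T) →
    (Cfsg.IsOfTypeII S ∨ Cfsg.IsOfTypeIII S ∨ Cfsg.IsOfTypeIV S ∨ Cfsg.IsOfTypeV S) →
    (Cfsg.IsOfTypeII T ∨ Cfsg.IsOfTypeIII T ∨ Cfsg.IsOfTypeIV T ∨ Cfsg.IsOfTypeV T) →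
    CoreResult S T W₁ W₂ U V

end Cfsg.Agent.Lib.OddOrder.PF13
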