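import Cfsg.Prelude.Def_OddOrderLocal

/-!
# Interface of BG section 14 (and the end of section 13)

Definitions only.  Facts that sections 14, 15, 16 use and that have no row of their own.
Everything else of section 14 is available as the frozen statements S1351-S1379, S1429-S1436:
take their types as hypotheses.

The implicit standing hypothesis `IsMinSimpleOddOrder G` is NOT part of these propositions: each
will be proved as `theorem … (hG : IsMinSimpleOddOrder G) : … G`.
-/

set_option autoImplicit false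

namespace Cfsg.Agent.Lib.OddOrder.Interface.BG14

universe u

/-- BG 13.11 / 14.1, EARLY: if some prime of `κ(M)` is outside `τ₁(M)`, then every prime of `M`
outside `σ(M)` lies in `κ(M)` (so `M` is of type `P₁`; in particular `τ₂(M) = ∅`).  Use this, not
`KappaTauOne`, in 14.3-14.6. -/
def KappaTauThreeP1 (G : Type u) [Group G] : Prop :=
  ∀ M : Subgroup G, IsCoatom M → ¬ Cfsg.kappa M ⊆ Cfsg.tau1 M →
    ∀ q : ℕ, q.Prime → q ∣ Nat.card M → q ∉ Cfsg.sigma M → q ∈ Cfsg.kappa M

/-- BG 14.7, LATE (rests on the counting, hence on 14.3-14.6 and S1377): an element of order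
`p ∈ τ₃(M)` acts without fixed points on `M_σ`. -/
def TauThreeRegular (G : Type u) [Group G] : Prop :=
  ∀ M : Subgroup G, IsCoatom M → ∀ (p : ℕ), p ∈ Cfsg.tau3 M → ∀ x ∈ M, orderOf x = p →
    Cfsg.sigmaCore M ⊓ Subgroup.centralizer ({x} : Set G) = ⊥

/-- BG 14.7, LATE (as `TauThreeRegular`): every prime of `κ(M)` lies in `τ₁(M)`. -/
def KappaTauOne (G : Type u) [Group G] : Prop :=
  ∀ M : Subgroup G, IsCoatom M → Cfsg.kappa M ⊆ Cfsg.tau1 M

/-- BG 13.10, EARLY: a prime of `τ₁(M) ∪ τ₃(M)` outside `κ(M)` acts without fixed points on `M_σ`;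
conversely one in `κ(M)` never does. -/
def NonKappaRegular (G : Type u) [Group G] : Prop :=
  ∀ M : Subgroup G, IsCoatom M → ∀ (p : ℕ), p ∈ Cfsg.tau1 M ∪ Cfsg.tau3 M → ∀ x ∈ M,
    orderOf x = p →
    (p ∉ Cfsg.kappa M ↔ Cfsg.sigmaCore M ⊓ Subgroup.centralizer ({x} : Set G) = ⊥)

/-- BG 14.2 (f): for `M` of type `P₂` the primes of `σ(M)` are exactly those of `β(M)`. -/
def TypeP2SigmaBeta (G : Type u) [Group G] : Prop :=
  ∀ M K U : Subgroup G, IsCoatom M → Cfsg.IsSigmaDecomposition M K U → K ≠ ⊥ → U ≠ ⊥ →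
    Cfsg.sigma M = Cfsg.beta M

/-- BG 14.4: if `x ∈ M_σ` is not trivial and `C_G(x) ≤ N` with `C_G(x) ⊄ M`, then every prime
divisor of the order of `x` lies in `τ₂(N)`, and `x ∉ N_σ`. -/
def SupportTauTwo (G : Type u) [Group G] : Prop :=
  ∀ M N : Subgroup G, IsCoatom M → IsCoatom N → ∀ x ∈ Cfsg.sigmaCore M, x ≠ 1 →
    ¬ Subgroup.centralizer ({x} : Set G) ≤ M → Subgroup.centralizer ({x} : Set G) ≤ N →
    (∀ p : ℕ, p.Prime → p ∣ orderOf x → p ∈ Cfsg.tau2 N) ∧ x ∉ Cfsg.sigmaCore N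

/-- BG 14.7: the partner `M*` of a maximal subgroup of type P is not conjugate to it, and the
prime sets `σ(M)`, `σ(M*)` are disjoint. -/
def PartnerNotConj (G : Type u) [Group G] : Prop :=
  ∀ M K U Mstar : Subgroup G, IsCoatom M → Cfsg.IsSigmaDecomposition M K U → K ≠ ⊥ →
    IsCoatom Mstar →
    K = Cfsg.sigmaCore Mstar ⊓
      Subgroup.centralizer ((Cfsg.sigmaCore M ⊓ Subgroup.centralizer (K : Set G)) : Set G) →
    (∀ g : G, Mstar ≠ M.map (MulAut.conj g).toMonoidHom) ∧
      Disjoint (Cfsg.sigma M) (Cfsg.sigma Mstar)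

end Cfsg.Agent.Lib.OddOrder.Interface.BG14
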