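import Cfsg.Prelude.Def_OddOrderLocal
import Cfsg.Prelude.Def_OddOrderChar
import Cfsg.Agent.Lib.OddOrder.Interface.PF9Char

/-!
# Peterfalvi §9: interface (definitions only)

Owner helper9.  Everything is phrased for an abstract finite group `L` (think `L = ↥M`, `M` maximal of
type II, III or IV) with subgroups `K = M'`, `H = M_F`, `U`, `W₁`, `W₂`; `Hyp` is Hypothesis (9.1) and
`Step_9_1` produces it from type-P data.

* `Step_9_3`   orders: `|H| |C_H(U W₁)|^q = |C_H(U)| |W₂|^q`; if `|W₂|` is prime, `C_H(U W₁) = 1`.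
* `Step_9_4`   a chief kernel `H₀` exists.
* `Step_9_6`   `|H/H₀| = p^q`, image of `W₂` of order `p`, `C_H(U) ≤ H₀`, `C ≠ U`, `U' ≤ C`, `W₁` fpf on `U/C`.
* `Step_9_7`   the dichotomy Galois / non-Galois.
* `Step_9_7_field` the field of order `p^q` in the Galois case.
* The character half (9.8)-(9.11) is `Interface/PF9Char.lean` (helper18); `Package` supplies its
  hypotheses `PF9Char.Setting` and `PF9Char.Dichotomy`.
-/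

set_option autoImplicit false

namespace Cfsg.Agent.Lib.OddOrder.PF9

open scoped commutatorElement

universe u v

variable {L : Type u} [Group L]

/-- Hypothesis (9.1), intrinsic to the maximal subgroup. -/
structure Hyp (K H U W₁ W₂ : Subgroup L) : Prop where
  odd : Odd (Nat.card L)
  K_normal : K.Normal
  H_normal : H.Normal
  H_nilpotent : Group.IsNilpotent H
  U_nilpotent : Group.IsNilpotent U
  U_ne : U ≠ ⊥
  U_le : U ≤ K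
  H_le : H ≤ K
  compl_HU : H ⊓ U = ⊥ ∧ H ⊔ U = K
  compl_KW : K ⊓ W₁ = ⊥ ∧ K ⊔ W₁ = ⊤
  coprime_HU : (Nat.card H).Coprime (Nat.card U)
  coprime_KW : (Nat.card K).Coprime (Nat.card W₁)
  W₁_prime : (Nat.card W₁).Prime
  W₁_normalizes : W₁ ≤ Subgroup.normalizer (U : Set L)
  W₂_ne : W₂ ≠ ⊥
  W₂_cyclic : IsCyclic W₂
  W₂_le : W₂ ≤ H
  W₂_eq : ∀ x ∈ W₁, x ≠ 1 → K ⊓ Subgroup.centralizer ({x} : Set L) = W₂
  U_not_cent : ¬ U ≤ Subgroup.centralizer (H : Set L)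
  U_derived : ⁅U, U⁆ ≤ Subgroup.centralizer (H : Set L)

/-- `H₀` is a chief kernel: normal in `L`, maximal such below `H`, with `U` not centralising `H/H₀`. -/
structure IsChiefKernel (H U H₀ : Subgroup L) : Prop where
  normal : H₀.Normal
  lt : H₀ < H
  maximal : ∀ N : Subgroup L, N.Normal → H₀ ≤ N → N ≤ H → N = H₀ ∨ N = H
  moves : ¬ ∀ a ∈ U, ∀ h ∈ H, ⁅a, h⁆ ∈ H₀

/-- `C = C_U(H/H₀)`. -/
def IsFactorCentralizer (H U H₀ C : Subgroup L) : Prop :=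
  ∀ x, x ∈ C ↔ x ∈ U ∧ ∀ h ∈ H, ⁅x, h⁆ ∈ H₀

/-- The Galois case: `U` is irreducible on `H/H₀`. -/
def IsGalois (H U H₀ : Subgroup L) : Prop :=
  ∀ N : Subgroup L, H₀ ≤ N → N ≤ H → U ≤ Subgroup.normalizer (N : Set L) → N = H₀ ∨ N = H

/-- (9.3). -/
def Step_9_3 (K H U W₁ W₂ : Subgroup L) : Prop :=
  Nat.card H * Nat.card ↥(H ⊓ Subgroup.centralizer ((U ⊔ W₁ : Subgroup L) : Set L)) ^ Nat.card W₁ =
      Nat.card ↥(H ⊓ Subgroup.centralizer (U : Set L)) * Nat.card W₂ ^ Nat.card W₁ ∧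
    ((Nat.card W₂).Prime → H ⊓ Subgroup.centralizer ((U ⊔ W₁ : Subgroup L) : Set L) = ⊥) ∧
    K = H ⊔ U

/-- (9.4). -/
def Step_9_4 (H U : Subgroup L) : Prop := ∃ H₀ : Subgroup L, IsChiefKernel H U H₀

/-- (9.6): the chief factor, for the prime `p`. -/
structure Step_9_6 (p : ℕ) (H U W₁ W₂ H₀ C : Subgroup L) : Prop where
  prime : p.Prime
  index_eq : H₀.relIndex H = p ^ Nat.card W₁
  pow_mem : ∀ h ∈ H, h ^ p ∈ H₀
  comm_mem : ∀ h ∈ H, ∀ k ∈ H, ⁅h, k⁆ ∈ H₀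
  W₂_image : H₀.relIndex (W₂ ⊔ H₀) = p
  centU_le : H ⊓ Subgroup.centralizer (U : Set L) ≤ H₀
  C_lt : C < U
  derived_le : ⁅U, U⁆ ≤ C
  C_normalized : U ⊔ W₁ ≤ Subgroup.normalizer (C : Set L)
  fpf : ∀ w ∈ W₁, w ≠ 1 → ∀ a ∈ U, ⁅w, a⁆ ∈ C → a ∈ C

/-- (9.7): the dichotomy. -/
structure Step_9_7 (p : ℕ) (H U W₁ H₀ C : Subgroup L) : Prop where
  galois : IsGalois H U H₀ →
    C.relIndex U * (p - 1) ∣ p ^ Nat.card W₁ - 1 ∧ (C.relIndex U).Coprime (p - 1) ∧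
    (∀ a ∈ U, a ∉ C → ∀ h ∈ H, ⁅a, h⁆ ∈ H₀ → h ∈ H₀) ∧
    (∃ a ∈ U, ∀ b ∈ U, ∃ n : ℕ, b * (a ^ n)⁻¹ ∈ C)
  nonGalois : ¬ IsGalois H U H₀ → ∃ H₁ K₁ : Subgroup L,
    H₀ < H₁ ∧ H₁ ≤ H ∧ U ≤ Subgroup.normalizer (H₁ : Set L) ∧ H₀.relIndex H₁ = p ∧
    (⨆ w ∈ W₁, H₁.map (MulAut.conj w).toMonoidHom) = H ∧
    IsFactorCentralizer H₁ U H₀ K₁ ∧ 1 < K₁.relIndex U ∧ 2 * K₁.relIndex U ∣ p - 1 ∧
    C.relIndex U ∣ K₁.relIndex U ^ (Nat.card W₁ - 1)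

/-- (9.7) in the Galois case: `H/H₀` is a field of order `p^q`, `U/C` multiplications and `W₂` its prime
field. -/
def Step_9_7_field (p : ℕ) (H U W₁ W₂ H₀ C : Subgroup L) : Prop :=
  IsGalois H U H₀ → ∃ (F : Type) (_ : Field F) (_ : Fintype F) (f ψ : L → F),
    Fintype.card F = p ^ Nat.card W₁ ∧
    (∀ x ∈ H, ∀ y ∈ H, f (x * y) = f x + f y) ∧ (∀ z : F, ∃ x ∈ H, f x = z) ∧
    (∀ x ∈ H, (f x = 0 ↔ x ∈ H₀)) ∧
    (∀ a ∈ U, ψ a ≠ 0 ∧ ∀ x ∈ H, f (a * x * a⁻¹) = ψ a * f x) ∧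
    (∀ a ∈ U, ∀ b ∈ U, ψ (a * b) = ψ a * ψ b) ∧ (∀ a ∈ U, (ψ a = 1 ↔ a ∈ C)) ∧
    (∀ x ∈ H, (f x ^ p = f x ↔ x ∈ W₂ ⊔ H₀))

/-- The structural package delivered by §9 for every chief kernel. -/
def Package (K H U W₁ W₂ : Subgroup L) : Prop :=
  Step_9_3 K H U W₁ W₂ ∧ Step_9_4 H U ∧ ∀ H₀ : Subgroup L, IsChiefKernel H U H₀ →
    ∃ (p : ℕ) (C : Subgroup L), IsFactorCentralizer H U H₀ C ∧ (H₀ ⊔ C).Normal ∧
      (H₀ ⊔ ⁅C, C⁆).Normal ∧ Step_9_6 p H U W₁ W₂ H₀ C ∧ ((Nat.card W₂).Prime → p = Nat.card W₂) ∧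
      Step_9_7 p H U W₁ H₀ C ∧ Step_9_7_field p H U W₁ W₂ H₀ C ∧
      PF9Char.Setting K H U W₁ W₂ H₀ C p (Nat.card W₁) ∧ PF9Char.Dichotomy H U W₁ H₀ p

/-- (9.1)-(9.3): the hypothesis from type-P data, and the consequences of the type. -/
def Step_9_1 (G : Type u) [Group G] : Prop :=
  Cfsg.IsMinSimpleOddOrder G → ∀ M W₁ U W₂ : Subgroup G, IsCoatom M →
    Cfsg.IsTypePWith M W₁ U W₂ → U ≠ ⊥ → (Nat.card W₁).Prime →
      Hyp ((⁅M, M⁆ : Subgroup G).subgroupOf M) (Cfsg.fittingHall M) (U.subgroupOf M)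
          (W₁.subgroupOf M) (W₂.subgroupOf M) ∧
      (Cfsg.IsOfTypeF ↥⁅M, M⁆ → Cfsg.fittingHallOf ⁅M, M⁆ = Cfsg.fittingHallOf M →
        Cfsg.fittingHallOf M ⊓ Subgroup.centralizer (U : Set G) = ⊥)

end Cfsg.Agent.Lib.OddOrder.PF9
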